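import Cfsg.Agent.Lib.TMax.FourB

/-!
# The tensor product group `GU₃ ∘ GU₄` is maximal in `SU₁₂`
-/

namespace Cfsg.Lib.TMax

open Module Cfsg.Lib.Unitary

set_option linter.unusedSectionVars false

variable {F V V₁ V₂ : Type*} [Field F] [AddCommGroup V] [Module F V] [AddCommGroup V₁]
  [Module F V₁] [AddCommGroup V₂] [Module F V₂] {σ : F →+* F} {q : ℕ}
  {B : V →ₛₗ[σ] V →ₗ[F] F} {B₁ : V₁ →ₛₗ[σ] V₁ →ₗ[F] F} {B₂ : V₂ →ₛₗ[σ] V₂ →ₗ[F] F}
  {K : Subgroup (V ≃ₗ[F] V)}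

/-- An endomorphism of a three-dimensional space satisfying a quadratic equation has an
eigenvector. -/
theorem exists_eigen_of_quad [FiniteDimensional F V] (h3 : finrank F V = 3) {a : V →ₗ[F] V}
    {α β : F} (h : ∀ v, a (a v) = α • v + β • a v) : ∃ v ≠ 0, ∃ l : F, a v = l • v := by
  have : Nontrivial V := Module.nontrivial_of_finrank_pos (R := F) (by omega)
  obtain ⟨v, hv⟩ := exists_ne (0 : V)
  by_cases h1 : a v ∈ F ∙ v
  · obtain ⟨l, hl⟩ := Submodule.mem_span_singleton.1 h1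
    exact ⟨v, hv, l, hl.symm⟩
  set U := Submodule.span F {v, a v} with hU
  have h2 : finrank F U = 2 := finrank_span_pair_of_linearIndependent
    ((LinearIndependent.pair_iff' hv).2 fun c hc => h1 (Submodule.mem_span_singleton.2 ⟨c, hc⟩))
  have h4 : U ≤ U.comap a := Submodule.span_le.2 (by
    rintro _ (rfl | rfl)
    · exact Submodule.subset_span (by simp)
    · exact Submodule.mem_span_pair.2 ⟨α, β, (h v).symm⟩)
  have h5 := U.finrank_quotient_add_finrank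
  obtain ⟨l, hl, -⟩ := LinearMap.existsUnique_eq_smul_id_of_finrank_eq_one (by omega)
    (U.mapQ U a h4)
  have h6 : ¬ Function.Injective (a - l • LinearMap.id : V →ₗ[F] V) := fun h6 => by
    have h7 : U = ⊤ := eq_top_iff.2 fun x _ => by
      obtain ⟨y, rfl⟩ := LinearMap.injective_iff_surjective.1 h6 x
      have := LinearMap.congr_fun hl (U.mkQ y)
      rw [Submodule.mkQ_apply, Submodule.mapQ_apply] at this
      exact (Submodule.Quotient.eq U).1 this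
    rw [h7, finrank_top] at h2
    omega
  rw [injective_iff_map_eq_zero] at h6
  push Not at h6
  obtain ⟨x, hx, hx0⟩ := h6
  exact ⟨x, hx0, l, sub_eq_zero.1 hx⟩

theorem TStr.fix_of_fix [FiniteDimensional F V₁] [FiniteDimensional F V₂] [FiniteDimensional F V]
    (T : TStr 1 B₁ B₂ B) (hn₁ : finrank F V₁ = 3) {L : Submodule F V₂} (hL : finrank F L = 2)
    {a : V₁ ≃ₗ[F] V₁} {b : V₂ ≃ₗ[F] V₂} (hb : L.map b.toLinearMap = L) {D : Submodule F V}
    (hD : D ≤ T.PS L) (h1 : ∀ w ∈ L, w ≠ 0 → D ⊔ T.PS (F ∙ w) = T.PS L)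
    (h2 : ∀ p ∈ D, T.kr a b p = p) : ∀ p ∈ T.PS L, T.kr a b p = p := by
  have h3 : ∀ w ∈ L, ∀ w' ∈ L, w' ≠ 0 → ∀ v, ∃ u, T.t v w + T.t u w' ∈ D := fun w hw w' hw' h0 v => by
    obtain ⟨d, hd, p, hp, e⟩ := Submodule.mem_sup.1 ((h1 w' hw' h0).ge (T.t_mem_PS v hw))
    obtain ⟨u, rfl⟩ := T.mem_P.1 hp
    exact ⟨-u, by simpa [← e]⟩
  have h4 : ∀ w w' : V₂, w ∉ F ∙ w' → ∀ v u v' u', T.t v w + T.t u w' = T.t v' w + T.t u' w' →
      v = v' := fun w w' h v u v' u' e => by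
    obtain ⟨s, hs, hs'⟩ := T.h₂.exists_perp_one h 1
    simpa [hs', T.h₂.swap hs] using congrArg (T.cr s) e
  by_cases h5 : ∀ w ∈ L, b w ∈ F ∙ w
  · refine fun p hp => T.PS_ext (f := (T.kr a b).toLinearMap) (g := 1) (fun v w hw => ?_) hp
    rcases eq_or_ne w 0 with rfl | h0
    · simp
    obtain ⟨w', hw', h6⟩ := SetLike.not_le_iff_exists.1 (show ¬ L ≤ F ∙ w from fun h => by
      have := Submodule.finrank_mono h
      rw [finrank_span_singleton h0] at this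
      omega)
    have h7 : w' ≠ 0 := by rintro rfl; exact h6 (zero_mem _)
    obtain ⟨u, hu⟩ := h3 w hw w' hw' h7 v
    obtain ⟨l, hl⟩ := Submodule.mem_span_singleton.1 (h5 w hw)
    obtain ⟨l', hl'⟩ := Submodule.mem_span_singleton.1 (h5 w' hw')
    have h8 := h2 _ hu
    rw [map_add, T.kr_t, T.kr_t, ← hl, ← hl', ← T.t_smul, ← T.t_smul] at h8
    rw [LinearEquiv.coe_coe, T.kr_t, ← hl, ← T.t_smul, h4 _ _ (Ctx4.notMem_symm h0 h6) _ _ _ _ h8]
    rfl
  exfalso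
  push Not at h5
  obtain ⟨w, hw, h5⟩ := h5
  have h0 : w ≠ 0 := by rintro rfl; simp at h5
  have h6 : b w ∈ L := hb.le ⟨w, hw, rfl⟩
  have h7 : b w ≠ 0 := by simpa
  have h8 : ∀ w' ∈ L, w' ≠ 0 → finrank F D + 3 = 6 + finrank F ↥(D ⊓ T.PS (F ∙ w')) :=
    fun w' hw' h0 => by
      have := Submodule.finrank_sup_add_finrank_inf_eq D (T.PS (F ∙ w'))
      rw [h1 w' hw' h0, T.finrank_P h0, T.finrank_PS, hn₁, hL] at this
      omega
  have h9 : D ⊓ T.PS (F ∙ w) = ⊥ := eq_bot_iff.2 fun p hp => by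
    obtain ⟨v, rfl⟩ := T.mem_P.1 hp.2
    have e := h2 _ hp.1
    rw [T.kr_t] at e
    have := h4 _ _ h5 (a v) 0 0 v (by simpa using e)
    simp [(map_eq_zero_iff a a.injective).1 this]
  have h10 := h8 w hw h0
  rw [h9, finrank_bot] at h10
  have h11 : Submodule.span F {w, b w} = L := Submodule.eq_of_le_of_finrank_le
    (Submodule.span_le.2 (by rintro _ (rfl | rfl) <;> assumption)) (by
      rw [hL, finrank_span_pair_of_linearIndependent ((LinearIndependent.pair_iff' h0).2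
        fun c hc => h5 (Submodule.mem_span_singleton.2 ⟨c, hc⟩))])
  obtain ⟨α, β, h12⟩ := Submodule.mem_span_pair.1 (h11.ge (hb.le ⟨b w, h6, rfl⟩))
  replace h12 : b (b w) = α • w + β • b w := h12.symm
  have h13 : ∀ v u, T.t v w + T.t u (b w) ∈ D → α • a u = v ∧ a v + β • a u = u := fun v u h => by
    have e := h2 _ h
    rw [map_add, T.kr_t, T.kr_t, h12, map_add, ← T.t_smul, ← T.t_smul, add_left_comm,
      ← LinearMap.add_apply, ← map_add] at e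
    exact ⟨h4 _ _ (Ctx4.notMem_symm h0 h5) _ _ _ _ e,
      h4 _ _ h5 _ _ _ _ ((add_comm _ _).trans (e.trans (add_comm _ _)))⟩
  have : Nontrivial V₁ := Module.nontrivial_of_finrank_pos (R := F) (by omega)
  have h14 : α ≠ 0 := by
    rintro rfl
    obtain ⟨v, hv⟩ := exists_ne (0 : V₁)
    obtain ⟨u, hu⟩ := h3 w hw _ h6 h7 v
    exact hv (by simpa using (h13 v u hu).1.symm)
  obtain ⟨v, hv, l, hl⟩ := exists_eigen_of_quad hn₁ (a := a.toLinearMap) (α := α⁻¹)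
    (β := -(α⁻¹ * β)) fun v => by
      obtain ⟨u, hu⟩ := h3 w hw _ h6 h7 v
      obtain ⟨e1, e2⟩ := h13 v u hu
      have e3 := congrArg a e2
      rw [map_add, map_smul] at e3
      have e4 : a u = α⁻¹ • v := by rw [eq_inv_smul_iff₀ h14, e1]
      rw [e4, map_smul] at e3
      simp only [LinearEquiv.coe_coe]
      linear_combination (norm := module) e3
  obtain ⟨u, hu⟩ := h3 w hw _ h6 h7 v
  obtain ⟨e1, e2⟩ := h13 v u hu
  have e4 : a u = α⁻¹ • v := by rw [eq_inv_smul_iff₀ h14, e1]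
  rw [e4, show a v = l • v from hl, smul_smul, ← add_smul] at e2
  rw [← e2, T.t_smul, ← map_add] at hu
  have h15 : w + (l + β * α⁻¹) • b w ≠ 0 := fun h => Ctx4.notMem_symm h0 h5
    (Submodule.mem_span_singleton.2 ⟨-(l + β * α⁻¹), by
      rw [neg_smul, neg_eq_iff_add_eq_zero, add_comm, h]⟩)
  have h16 := h8 _ (add_mem hw (L.smul_mem _ h6)) h15
  have h17 : D ⊓ T.PS (F ∙ (w + (l + β * α⁻¹) • b w)) = ⊥ := Submodule.finrank_eq_zero.1 (by omega)
  exact T.t_ne_zero hv h15 (h17.le ⟨hu, T.t_mem_P _ _⟩)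

namespace Ctx4

variable {T : TStr 1 B₁ B₂ B} (c : Ctx4 q T K)
  [FiniteDimensional F V₁] [FiniteDimensional F V₂] [FiniteDimensional F V] [Nontrivial V₁]
  (hR : ∀ β ∈ c.ring, ∃ a : F, ∀ v, β v = a • v)
include c hR

theorem mem_kron_of_P {w w₁ : V₂} (hw0 : w ≠ 0) (hw : B₂ w w = 0) (hw₁ : w₁ ≠ 0) {k : V ≃ₗ[F] V}
    (hk : k ∈ K) (h : ∀ v, k (T.t v w₁) ∈ T.PS (F ∙ w)) : k ∈ T.kron := by
  obtain ⟨v, hv⟩ := exists_ne (0 : V₁)
  obtain ⟨u, hu⟩ := T.h₁.exists_eq_one hv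
  obtain ⟨p, hp⟩ := T.mem_P.1 (h v)
  obtain ⟨p', hp'⟩ := T.mem_P.1 (h u)
  have h1 := c.le hk (T.t v w₁) (T.t u w₁)
  rw [← hp, ← hp', T.tt, T.tt, hw, hu, mul_zero, one_mul] at h1
  obtain ⟨b, hb, -, a, -, hab⟩ := c.exists_trans hw0 hw₁ hw h1.symm
  rw [← T.kron.mul_mem_cancel_right (T.kr_mem 1 b)]
  exact c.mem_kron_of_stab hR hw0 hw (mul_mem hk hb) fun v => by
    simpa [hab] using Submodule.smul_mem _ a (h v)

/-- The stabiliser of `V₁ ⊗ ℓ` preserves the tensor decomposition. -/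
theorem mem_kron_of_line {w s w' : V₂} (hw0 : w ≠ 0) (hw : B₂ w w = 0) (hss : B₂ s s = 0)
    (hs : B₂ w s = 0) (hw0' : w' ≠ 0) {k : V ≃ₗ[F] V} (hk : k ∈ K)
    (h : ∀ v, k (T.t v w') ∈ T.PS (Submodule.span F {w, s})) : k ∈ T.kron := by
  have hw' : B₂ w' w' = 0 := by
    obtain ⟨v, hv⟩ := exists_ne (0 : V₁)
    obtain ⟨u, hu⟩ := T.h₁.exists_eq_one hv
    have := T.PS_le_perp (T.pair_le_perp hw hss hs) (h u) _ (h v)
    rwa [c.le hk, T.tt, hu, one_mul] at this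
  obtain ⟨δ, hδ0, hδ⟩ := c.bar.exists_skew
  obtain ⟨b, hb, hb1, hb2⟩ := c.exists_tv hw (γ := δ) (by simp [hδ])
  have h6 : ∀ v, (k⁻¹ * T.kr 1 b * k) (T.t v w') = T.t v w' := fun v => k.symm_apply_eq.2 (by
    have := T.mem_perp_PS.1 (T.PS_le_perp (T.pair_le_perp hw hss hs) (h v)) w
      (Submodule.subset_span (by simp))
    simp [hb2, this])
  obtain ⟨a, d, had⟩ := c.mem_kron_of_stab hR hw0' hw'
    (mul_mem (mul_mem (inv_mem hk) hb) hk) fun v => by rw [h6]; exact T.t_mem_P v w'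
  obtain ⟨d', hd'⟩ := T.kr_one_of_sub_mem (a := a) (b := d) (L := ⊥) hw0' fun v => by
    rw [had, h6, sub_self]; exact zero_mem _
  have hd : T.kr 1 b * k = k * T.kr 1 d' := by rw [← hd', had]; group
  have h7 : ∀ v y, k (T.t v (d' y - y)) = T.t (δ • T.cr w (k (T.t v y))) w := fun v y => by
    have h7 := hb2 (k (T.t v y))
    rw [← LinearEquiv.mul_apply, hd, LinearEquiv.mul_apply, T.kr_t] at h7
    rw [map_sub, map_sub, sub_eq_iff_eq_add']
    exact h7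
  obtain ⟨y, hy⟩ : ∃ y, d' y - y ≠ 0 := by
    by_contra! h8
    obtain ⟨v, hv⟩ := exists_ne (0 : V₁)
    obtain ⟨y, hy⟩ := T.h₂.exists_eq_one hw0
    have := T.ext_t (f := δ • T.cr w ∘ₗ k.toLinearMap) (g := 0) (fun v y => T.t_inj hw0 (by
      simpa only [h8, map_zero, LinearMap.zero_apply, LinearMap.comp_apply, LinearEquiv.coe_coe,
        LinearMap.smul_apply] using (h7 v y).symm)) (k⁻¹ (T.t v y))
    simp [hy, hv, hδ0] at this
  exact c.mem_kron_of_P hR hw0 hw hy hk fun v => h7 v y ▸ T.t_mem_P _ w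

theorem mem_kron_of_conj (hn : finrank F V₁ < finrank F V₂) {w : V₂} (hw0 : w ≠ 0)
    (hw : B₂ w w = 0) {x k : V ≃ₗ[F] V} (hx : ∀ y, x y - y ∈ T.PS (F ∙ w)) (hx1 : x ≠ 1)
    (hk : k ∈ K) (h : k * x * k⁻¹ ∈ T.kron) : k ∈ T.kron := by
  obtain ⟨a, b, hab⟩ := h
  have h1 : ∀ y, T.kr a b y - y ∈ mp k (T.PS (F ∙ w)) := fun y => by
    simpa [hab, mem_mp] using hx (k⁻¹ y)
  obtain ⟨b', hb'⟩ := T.kr_one_of_rank h1 (by rwa [finrank_mp, T.finrank_P hw0])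
  obtain ⟨y, hy⟩ : ∃ y, b' y - y ≠ 0 := by
    by_contra! h2
    rw [hb', show b' = 1 from LinearEquiv.ext fun y => sub_eq_zero.1 (h2 y), T.kr_one] at hab
    exact hx1 (by simpa using hab.symm)
  exact (T.kron.inv_mem_iff).1 (c.mem_kron_of_P hR hw0 hw hy (inv_mem hk) fun v => by
    simpa [hb', mem_mp] using h1 (T.t v y))

/-- The global argument when the second factor has transvections. -/
theorem le_kron [Finite V] (hn₁ : finrank F V₁ = 3) (hn₂ : finrank F V₂ = 4) : K ≤ T.kron := by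
  by_contra hK
  have hn : finrank F V₁ < finrank F V₂ := by omega
  obtain ⟨γ, hγ0, hγ'⟩ := c.bar.exists_skew
  have hγ : γ + 1 * σ γ = 0 := by simp [hγ']
  obtain ⟨w₁, w₂, h0, hw₁, hw₂, h12, h1⟩ := c.exists_flag
  set L := Submodule.span F {w₁, w₂} with hL
  have hL1 : L ≤ perp B₂ L := T.pair_le_perp hw₁ hw₂ h12
  have hL2 : finrank F L = 2 := finrank_span_pair_of_linearIndependent
    ((LinearIndependent.pair_iff' h0).2 fun a ha => h1 (Submodule.mem_span_singleton.2 ⟨a, ha⟩))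
  have hx : ∀ w ∈ L, w ≠ 0 → ∃ x ∈ K, (∀ y, x y = y + T.t (γ • T.cr w y) w) ∧
      ∀ k ∈ K, k * x * k⁻¹ ∈ T.kron → k ∈ T.kron := fun w hw hw0 => by
    obtain ⟨b, hb, hb'⟩ := T.h₂.exists_transv (hL1 hw w hw) hγ
    have h2 : ∀ y, T.kr 1 b y = y + T.t (γ • T.cr w y) w := T.ext_t (f := (T.kr 1 b).toLinearMap)
      (g := 1 + T.t.flip w ∘ₗ (γ • T.cr w)) fun v y => by simp [hb', mul_smul]
    refine ⟨_, c.e₂ (hL1 hw w hw) hb, h2, fun k hk => c.mem_kron_of_conj hR hn hw0 (hL1 hw w hw)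
      (fun y => by rw [h2, add_sub_cancel_left]; exact T.t_mem_P _ _) (fun h => ?_) hk⟩
    obtain ⟨v, hv⟩ := exists_ne (0 : V₁)
    obtain ⟨y, hy⟩ := T.h₂.exists_eq_one hw0
    simpa [h, hy, hγ0, T.t_ne_zero hv hw0] using h2 (T.t v y)
  obtain ⟨g, M⟩ := exists_max hK (T.PS L)
  have hP := T.PS_le_perp hL1
  have hP' : mp g (T.PS L) ≤ perp B (mp g (T.PS L)) := fun y hy =>
    (mem_perp_mp (c.le M.mem)).2 (hP hy)
  have n2 : ∀ w ∈ L, w ≠ 0 → ∀ p ∈ mp g (T.PS L), T.cr w p = 0 → p ∈ T.PS L :=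
    fun w hw hw0 p hp hp' => by
      obtain ⟨x, h2, h3, h4⟩ := hx w hw hw0
      by_contra h5
      exact M.nmem ((T.kron.inv_mem_iff).1 (h4 _ (inv_mem M.mem) (M.conj_mem M.mem h2 inf_le_right
        (fun y hy => by simp [h3, T.mem_perp_PS.1 (hP hy.1) w hw]) hp (fun h => h5 h.1)
        (by simpa [h3, hp']))))
  have hD : ∀ L' < L, ¬ T.PS L ⊓ mp g (T.PS L) ≤ T.PS L' := fun L' hL' h => by
    obtain ⟨w, hw, hw0, h2⟩ := exists_le_span hL2.le hL'
    replace h := h.trans (T.PS_mono h2)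
    have h3 := Submodule.finrank_mono (show mp g (T.PS L) ⊓ perp B (T.PS (F ∙ w)) ≤
      T.PS L ⊓ mp g (T.PS L) from fun p hp => ⟨n2 w hw hw0 p hp.1 (T.mem_perp_P.1 hp.2), hp.1⟩)
    have h4 := Submodule.finrank_mono (show mp g (T.PS L) ⊔ perp B (T.PS (F ∙ w)) ≤
      perp B (T.PS L ⊓ mp g (T.PS L)) from sup_le (fun p hp y hy => hP' hp y hy.2)
        fun p hp y hy => hp y (h hy))
    have h5 := Submodule.finrank_sup_add_finrank_inf_eq (mp g (T.PS L)) (perp B (T.PS (F ∙ w)))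
    have h6 := T.h.finrank_add_finrank_perp (T.PS (F ∙ w))
    have h7 := T.h.finrank_add_finrank_perp (T.PS L ⊓ mp g (T.PS L))
    rw [finrank_mp, T.finrank_PS, hL2] at h5
    rw [T.finrank_P hw0] at h6
    have := finrank_pos (R := F) (M := V₁)
    omega
  have h2 : w₂ ≠ 0 := by rintro rfl; exact h1 (zero_mem _)
  have hL3 : w₁ ∈ L := Submodule.subset_span (by simp)
  have hL4 : w₂ ∈ L := Submodule.subset_span (by simp)
  obtain ⟨x₁, h3, h4, h5⟩ := hx w₁ hL3 h0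
  obtain ⟨x₂, h6, h7, h8⟩ := hx w₂ hL4 h2
  have h9 : ∀ y ∈ perp B (T.PS L ⊔ mp g (T.PS L)), y ∈ perp B (T.PS L) ∧ g⁻¹ y ∈ perp B (T.PS L) :=
    fun y hy => by rwa [perp_sup, Submodule.mem_inf, mem_perp_mp (c.le M.mem)] at hy
  have h10 : ∀ k ∈ K ⊓ fixStab (perp B (T.PS L ⊔ mp g (T.PS L))), ∀ p ∈ T.PS L ⊓ mp g (T.PS L),
      k p = p := fun k hk p hp => hk.2 p (perp_sup (B := B) _ _ ▸ ⟨hP hp.1, hP' hp.2⟩)
  refine M.false_of_sub (x := fun c => if c then x₁ else x₂)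
    (Γ := K ⊓ fixStab (perp B (T.PS L ⊔ mp g (T.PS L)))) inf_le_left
    (fun k hk h => c.mem_kron_of_line hR h0 hw₁ hw₂ h12 h0 hk fun v => h _ (T.t_mem_PS v hL3))
    (fun k hk c => by cases c; exacts [h8 k hk, h5 k hk])
    (fun c y => by cases c <;> simp [h4, h7, Submodule.smul_mem, T.t_mem_PS, hL3, hL4])
    (fun y hy => ?_) (fun c => ?_) ⟨mul_mem (mul_mem M.mem h3) (K.inv_mem M.mem), fun y hy => ?_⟩
    h10 ?_
  · obtain ⟨s, hs, hs'⟩ := T.h₂.exists_perp_one h1 1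
    obtain ⟨s', hs''⟩ := T.h₂.exists_eq_one' h0
    simp only [↓reduceIte, Bool.false_eq_true, h4, h7, add_right_inj] at hy ⊢
    have := congrArg (T.cr s) hy
    rw [T.cr_t, T.cr_t, T.h₂.swap hs, hs', zero_smul, one_smul] at this
    rw [hy, ← this]
    simp
  · cases c
    · exact ⟨h6, fun y hy => by simp [h7, T.mem_perp_PS.1 (h9 y hy).1 _ hL4]⟩
    · exact ⟨h3, fun y hy => by simp [h4, T.mem_perp_PS.1 (h9 y hy).1 _ hL3]⟩
  · rw [LinearEquiv.mul_apply, LinearEquiv.mul_apply, if_pos rfl, h4, T.mem_perp_PS.1 (h9 y hy).2 _ hL3]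
    simp
  rintro _ hk ⟨a, b, rfl⟩
  have h11 : L.map b.toLinearMap = L := by
    by_contra h11
    refine hD (L ⊓ L.map b.toLinearMap) (lt_of_le_of_ne inf_le_left fun h => h11
      (Submodule.eq_of_le_of_finrank_eq (inf_eq_left.1 h) (LinearEquiv.finrank_map_eq b L).symm).symm)
      fun p hp => ?_
    rw [T.PS_inf, ← T.map_kr_PS a]
    exact ⟨hp.1, p, hp.1, h10 _ hk p hp⟩
  have h12 : ∀ w ∈ L, w ≠ 0 → T.PS L ⊓ mp g (T.PS L) ⊔ T.PS (F ∙ w) = T.PS L := fun w hw hw0 => by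
    have e0 : T.PS (F ∙ w) ≤ T.PS L := T.PS_mono ((Submodule.span_singleton_le_iff_mem _ _).2 hw)
    refine Submodule.eq_of_le_of_finrank_le (sup_le inf_le_left e0) ?_
    have e1 := Submodule.finrank_mono (show perp B (mp g (T.PS L) ⊔ T.PS (F ∙ w)) ≤
      T.PS L ⊓ mp g (T.PS L) from fun p hp => by
        rw [perp_sup] at hp
        have e1 : p ∈ mp g (T.PS L) := by
          refine (Submodule.eq_of_le_of_finrank_le hP' ?_).ge hp.1
          have := T.h.finrank_add_finrank_perp (mp g (T.PS L))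
          rw [T.finrank_eq] at this
          rw [finrank_mp, T.finrank_PS, hL2, hn₁] at this ⊢
          omega
        exact ⟨n2 w hw hw0 p e1 (T.mem_perp_P.1 hp.2), e1⟩)
    have e2 := T.h.finrank_add_finrank_perp (mp g (T.PS L) ⊔ T.PS (F ∙ w))
    have e3 := Submodule.finrank_sup_add_finrank_inf_eq (mp g (T.PS L)) (T.PS (F ∙ w))
    have e4 := Submodule.finrank_sup_add_finrank_inf_eq (T.PS L ⊓ mp g (T.PS L)) (T.PS (F ∙ w))
    rw [inf_comm (T.PS L), inf_assoc, inf_eq_right.2 e0, inf_comm (mp g _) (T.PS L)] at e4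
    rw [finrank_mp] at e3
    rw [T.finrank_eq] at e2
    rw [T.finrank_PS, hL2] at e3 ⊢
    rw [T.finrank_P hw0] at e3 e4
    rw [hn₁, hn₂] at e2
    omega
  exact T.fix_of_fix hn₁ hL2 h11 inf_le_left h12 (h10 _ hk)

end Ctx4

variable [FiniteDimensional F V₁] [FiniteDimensional F V₂] [FiniteDimensional F V]

theorem Amb.ctx4 {T : TStr 1 B₁ B₂ B} {U G : Subgroup (V ≃ₗ[F] V)} (A : Amb T U G)
    (hK : T.kron ⊓ G ≤ K) (hKG : K ≤ G) (hσ : IsBar q σ) (h4 : 4 ≤ finrank F V₂) : Ctx4 q T K where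
  le := hKG.trans (A.le.trans A.le')
  unip _ hw _ hz a b hab h1 h2 h3 := hK ⟨T.kr_mem a b, A.unip hw (hKG hz) hab h1 h2 h3⟩
  e₁ u hu a ha := by
    refine hK ⟨T.kr_mem a 1, ?_⟩
    obtain ⟨h1, h2, h3⟩ := mem_QE.1 ha
    rw [← T.symm_kr]
    refine A.symm.unip hu (one_mem _) (T.symm.kr_mem_UG (one_mem _) h1) (fun v => by simp [h2])
      (fun x hx => ?_) ⟨1, by simp [h2]⟩
    have := T.symm.cr_ext (f := (T.symm.PS (F ∙ u)).mkQ ∘ₗ (1 - (T.symm.kr 1 a).toLinearMap))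
      (g := 0) (w := u) (fun v y hy => by
        obtain ⟨c, hc⟩ := h3 y hy
        simp only [LinearMap.comp_apply, LinearMap.zero_apply, Submodule.mkQ_apply,
          Submodule.Quotient.mk_eq_zero, LinearMap.sub_apply, Module.End.one_apply,
          LinearEquiv.coe_coe, TStr.kr_t, hc, map_add, LinearEquiv.coe_one, id, sub_add_cancel_left]
        exact neg_mem (T.symm.t_mem_PS _ (Submodule.smul_mem _ _
          (Submodule.mem_span_singleton_self u)))) hx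
    exact (Submodule.Quotient.mk_eq_zero _).1 this
  bar := hσ
  four := h4

theorem max_U34 {T : TStr 1 B₁ B₂ B} (hσ : IsBar q σ) (h3 : finrank F V₁ = 3)
    (h4 : finrank F V₂ = 4) :
    ¬ SUG B ≤ T.kron ∧ ∀ K, T.kron ⊓ SUG B ≤ K → K ≤ SUG B → K ≤ T.kron ∨ SUG B ≤ K := by
  have := hσ.finite
  have : Finite V := Module.finite_of_finite F
  have : Nontrivial V₁ := Module.nontrivial_of_finrank_pos (R := F) (by omega)
  have h := T.h.isHerm hσ
  have hI := T.h₂.iso3_herm hσ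
  obtain ⟨u, u', w, w', hu, hu', hw0, hw0', hw, hw', huw⟩ := T.exists_pair hI (by omega)
  have h5 : 4 ≤ finrank F V := by rw [T.finrank_eq, h3, h4]; omega
  constructor
  · intro hle
    obtain ⟨s, -, h1, h6⟩ := T.h₂.exists_line4 hσ h4.ge hw0
    obtain ⟨g, hg, γ, e⟩ := T.h.exists_isEich (T.B_P hw u) (a := T.t u s) (by simp [T.tt, h1])
    refine T.not_mem_kron (by omega) (by omega) hu hw0 h6 e (hle ?_)
    rw [e.eq (T.B_P hw u) (by simp [T.tt, h1]) (by simp [T.tt, T.h₂.swap h1])] at hg ⊢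
    exact h.QE_le_SUG (T.t_ne_zero hu hw0) (T.B_P hw u) (h.eichler_mem_QE
      (h.gamma_eq_of_isEich (T.B_P hw u) (T.t_ne_zero hu hw0) (by simp [T.tt, h1]) hg
        (isEich_eichler _ _ _ _ _ _)))
  intro K hK hKG
  have c : Ctx4 q T K := Amb.ctx4 ⟨SUG_le_UG, le_rfl, fun _ _ h => h, fun _ _ => T.h.unip_SUG _,
    fun _ _ => T.h.unip_SUG _⟩ hK hKG hσ h4.ge
  by_cases hR : ∀ β ∈ c.ring, ∃ a : F, ∀ v, β v = a • v
  · exact Or.inl (c.le_kron hR h3 h4)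
  obtain ⟨e, he0, he⟩ := (T.h₁.isHerm hσ).exists_isotropic (by omega)
  obtain ⟨δ, hδ0, hδ⟩ := hσ.exists_skew
  replace hR := T.h₁.top_of_trace c.alg he0 he hδ0 (by simp [hδ]) (Or.inr h3.ge) hR
  exact Or.inr (h.SUG_le_of_QE_QE (T.B_P hw u) hσ h5 c.le (T.B_P hw' u') (by simp [huw])
    (h.QE_le_of_AE (T.B_P hw u) (by omega) c.le (T.t_ne_zero hu hw0)
      fun a ha => c.mem_AE hR hu hw0 hw ha)
    (h.QE_le_of_AE (T.B_P hw' u') (by omega) c.le (T.t_ne_zero hu' hw0')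
      fun a ha => c.mem_AE hR hu' hw0' hw' ha))

open Matrix Cfsg.Geo Cfsg.Lib.Asch Cfsg.Lib.Linear in
theorem isMaximalIn_unitary34 {n : ℕ} (hσ : IsBar q σ) {e : Fin n ≃ Fin 3 × Fin 4}
    {P : GL (Fin n) F} {f₁ : (Fin 3 → F) → (Fin 3 → F) → F} {f₂ : (Fin 4 → F) → (Fin 4 → F) → F}
    (h₁ : IsUnitaryFormPow q f₁) (h₂ : IsUnitaryFormPow q f₂)
    (hT : IsTensorFormStructure (fun x : F => x ^ q) (hermForm n F q) f₁ f₂ e P) :
    IsMaximalIn (GU n F q ⊓ specialLinear (Fin n) F)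
      (tensorProductSubgroup 3 4 e P ⊓ (GU n F q ⊓ specialLinear (Fin n) F)) := by
  have : Nonempty (Fin n) := ⟨e.symm (0, 0)⟩
  have h₁' := sform_of_unitaryPow hσ h₁
  have h₂' := sform_of_unitaryPow hσ h₂
  rw [show (fun x : F => x ^ q) = σ from funext fun x => (hσ.eq x).symm] at hT
  obtain ⟨c, -, T, -, h3⟩ := exists_tstr hσ.isHerm.ef (fun u v => (hσ.hermForm_eq v u).symm) h₁' h₂'
    (Or.inl rfl)
    (fun c hc s => by
      simpa [eq_comm] using hσ.exists_trace_eq (s := c * f₁ s s)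
        (by rw [map_mul, hc, ← one_mul (σ _), ← h₁'.herm]))
    (fun s => by
      simpa [eq_comm] using hσ.exists_trace_eq (s := f₂ s s) (by rw [← one_mul (σ _), ← h₂'.herm]))
    hT
  obtain ⟨h4, h6⟩ := max_U34 (T := T) hσ (by simp) (by simp)
  exact hσ.isMaximalIn_of (fun g _ => h3 g) h4 h6

end Cfsg.Lib.TMax
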